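import Mathlib

/-!
# Arithmetic of the orders of elements of the projective general unitary group
-/

set_option autoImplicit false

namespace Cfsg.Agent.Classical.PGUOrder

/-- The number `q ^ n - (-1) ^ n`. -/
def W (q n : ℕ) : ℕ := if Odd n then q ^ n + 1 else q ^ n - 1

theorem W_odd (q : ℕ) {n : ℕ} (hn : Odd n) : W q n = q ^ n + 1 := if_pos hn

theorem W_even (q : ℕ) {n : ℕ} (hn : Even n) : W q n = q ^ n - 1 :=
  if_neg (Nat.not_odd_iff_even.2 hn)

theorem W_le (q n : ℕ) : W q n ≤ q ^ n + 1 := by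
  unfold W; split <;> omega

theorem W_int {q : ℕ} (hq : 1 ≤ q) (n : ℕ) : (W q n : ℤ) = (q : ℤ) ^ n - (-1) ^ n := by
  rcases Nat.even_or_odd n with h | h
  · rw [W_even q h, h.neg_one_pow, Nat.cast_sub (Nat.one_le_pow _ _ hq)]
    push_cast; rfl
  · rw [W_odd q h, h.neg_one_pow]
    push_cast; ring

theorem dvd_W {q : ℕ} (hq : 1 ≤ q) (n : ℕ) : q + 1 ∣ W q n := by
  have h : ((q + 1 : ℕ) : ℤ) ∣ (W q n : ℤ) := by
    rw [W_int hq]
    push_cast
    simpa using sub_dvd_pow_sub_pow (q : ℤ) (-1) n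
  exact_mod_cast h

/-- The order of a single block modulo scalars. -/
def R (q n : ℕ) : ℕ := W q n / (q + 1)

theorem succ_mul_R {q : ℕ} (hq : 1 ≤ q) (n : ℕ) : (q + 1) * R q n = W q n :=
  Nat.mul_div_cancel' (dvd_W hq n)

theorem R_one (q : ℕ) : R q 1 = 1 := by
  rw [R, W_odd q odd_one, pow_one, Nat.div_self (Nat.succ_pos q)]

theorem R_lt {q n : ℕ} (hq : 2 ≤ q) (hn : 2 ≤ n) : R q n + 1 ≤ q ^ (n - 1) := by
  have h1 := succ_mul_R (by omega : 1 ≤ q) n
  have h2 := W_le q n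
  have h3 : q ^ n = q * q ^ (n - 1) := by rw [← pow_succ', Nat.sub_add_cancel (by omega)]
  have h4 : q ≤ q ^ (n - 1) := Nat.le_self_pow (by omega) q
  nlinarith

theorem pair_le {q a b : ℕ} (hq : 2 ≤ q) (ha : 2 ≤ a) (hb : 2 ≤ b) :
    (q + 1) * R q a * R q b + 1 ≤ q ^ (a + b - 1) := by
  wlog hba : b ≤ a generalizing a b
  · have := this hb ha (Nat.le_of_not_le hba)
    rwa [mul_right_comm, add_comm b a] at this
  rw [succ_mul_R (by omega)]
  have h1 := W_le q a
  have h2 := R_lt hq hb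
  have h3 : q ^ (b - 1) ≤ q ^ a := Nat.pow_le_pow_right (by omega) (by omega)
  have h4 : q ^ (a + b - 1) = q ^ a * q ^ (b - 1) := by rw [← pow_add]; congr 1; omega
  rw [h4]
  nlinarith

theorem prod_le {ι : Type*} {q : ℕ} (hq : 2 ≤ q) (n : ι → ℕ) (S : Finset ι)
    (hn : ∀ i ∈ S, 2 ≤ n i) (hS : 2 ≤ S.card) :
    (q + 1) * ∏ i ∈ S, R q (n i) + 1 ≤ q ^ (∑ i ∈ S, n i - 1) := by
  classical
  induction S using Finset.strongInduction with
  | H S ih =>
    by_cases h2 : S.card = 2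
    · obtain ⟨a, b, hab, rfl⟩ := Finset.card_eq_two.1 h2
      rw [Finset.prod_pair hab, Finset.sum_pair hab, ← mul_assoc]
      exact pair_le hq (hn a (by simp)) (hn b (by simp))
    obtain ⟨i, hi⟩ := Finset.card_pos.1 (by omega : 0 < S.card)
    have hcard := Finset.card_erase_of_mem hi
    have h := ih (S.erase i) (Finset.erase_ssubset hi)
      (fun j hj => hn j (Finset.mem_of_mem_erase hj)) (by omega)
    rw [← Finset.mul_prod_erase S (fun j => R q (n j)) hi, ← Finset.add_sum_erase S n hi]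
    set B := ∑ j ∈ S.erase i, n j with hB
    set P := ∏ j ∈ S.erase i, R q (n j)
    have hB1 : 1 ≤ B := by
      obtain ⟨j, hj⟩ := Finset.card_pos.1 (by omega : 0 < (S.erase i).card)
      exact le_trans (by have := hn j (Finset.mem_of_mem_erase hj); omega)
        (Finset.single_le_sum (fun k _ => Nat.zero_le _) hj)
    have h3 := R_lt hq (hn i hi)
    have h4 : q ^ (n i + B - 1) = q ^ (n i - 1) * q * q ^ (B - 1) := by
      rw [← pow_succ, ← pow_add]; congr 1; have := hn i hi; omega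
    rw [h4]
    have h5 : R q (n i) * ((q + 1) * P) ≤ q ^ (n i - 1) * q ^ (B - 1) :=
      Nat.mul_le_mul (by omega) (by omega)
    have h6 : 1 ≤ q ^ (n i - 1) * q ^ (B - 1) := Nat.mul_pos (pow_pos (by omega) _) (pow_pos (by omega) _)
    nlinarith

theorem le_pow_pred {p : ℕ} (hp : 2 ≤ p) (m : ℕ) : m ≤ p ^ (m - 1) := by
  rcases m with _ | k
  · simp
  exact Nat.succ_le_of_lt ((Nat.lt_two_pow_self (n := k)).trans_le (Nat.pow_le_pow_left hp k))

theorem le_pow_sub_two {p : ℕ} (hp : 2 ≤ p) {m : ℕ} (hm : 3 ≤ m) (h : 3 ≤ p ∨ 4 ≤ m) :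
    m ≤ p ^ (m - 2) := by
  obtain ⟨k, rfl⟩ : ∃ k, m = k + 3 := ⟨m - 3, by omega⟩
  show k + 3 ≤ p ^ (k + 1)
  rcases h with h | h
  · refine le_trans ?_ (Nat.pow_le_pow_left h _)
    have := Nat.lt_two_pow_self (n := k)
    have := Nat.pow_le_pow_left (show 2 ≤ 3 by norm_num) k
    rw [pow_succ]; omega
  · refine le_trans ?_ (Nat.pow_le_pow_left hp _)
    obtain ⟨j, rfl⟩ : ∃ j, k = j + 1 := ⟨k - 1, by omega⟩
    have := Nat.lt_two_pow_self (n := j)
    rw [pow_succ, pow_succ]; omega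

/-- The inequality used for all the non-extremal cases. -/
theorem two_terms_le {q d : ℕ} (hq : 2 ≤ q) (hd : 3 ≤ d) :
    q ^ (d - 2) + q ^ (d - 3) + 1 ≤ q ^ (d - 1) := by
  obtain ⟨e, rfl⟩ : ∃ e, d = e + 3 := ⟨d - 3, by omega⟩
  show q ^ (e + 1) + q ^ e + 1 ≤ q ^ (e + 2)
  have : 1 ≤ q ^ e := Nat.one_le_pow _ _ (by omega)
  rw [pow_succ, pow_add]
  have h : q + 2 ≤ q ^ 2 := by nlinarith
  calc q ^ e * q + q ^ e + 1 ≤ q ^ e * q + q ^ e * 2 := by omega
    _ = q ^ e * (q + 2) := by ring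
    _ ≤ q ^ e * q ^ 2 := Nat.mul_le_mul_left _ h

/-- A block of size `n ≥ 2` together with eigenvalues of norm one. -/
theorem one_block_le {p f q d T : ℕ} (hp : 2 ≤ p) (hf : 1 ≤ f) (hq : q = p ^ f) (hd : 3 ≤ d)
    (hT : q ^ (d - 1) - 1 ≤ T) (hT1 : Odd d → f = 1 → (q ^ (d - 2) + 1) * p ≤ T)
    (hT2 : Even d → q ^ (d - 1) + 1 ≤ T) (hT3 : Even d → q = 2 → 4 * (q ^ (d - 3) + 1) ≤ T)
    (n M : ℕ) (hn : 2 ≤ n) (hM : 1 ≤ M) (h : n * M + 1 ≤ d ∨ n + M ≤ d) :
    W q n * p ^ Nat.clog p M ≤ T := by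
  have hpq : p ≤ q := hq ▸ Nat.le_self_pow (by omega) p
  have hq2 : 2 ≤ q := le_trans hp hpq
  have hW := W_le q n
  have h23 := two_terms_le hq2 hd
  have hclog : ∀ k, M ≤ p ^ k → p ^ Nat.clog p M ≤ q ^ k := fun k hk =>
    le_trans (Nat.pow_le_pow_right (by omega) (Nat.clog_le_of_le_pow hk)) (Nat.pow_le_pow_left hpq k)
  have hnd : n + 1 ≤ d := by
    rcases h with h | h
    · have := Nat.le_mul_of_pos_right n hM; omega
    · omega
  rcases Nat.lt_or_ge M 2 with hM1 | hM2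
  · obtain rfl : M = 1 := by omega
    rw [Nat.clog_one_right, pow_zero, mul_one]
    rcases eq_or_lt_of_le hnd with he | hlt
    · obtain rfl : d = n + 1 := he.symm
      rcases Nat.even_or_odd n with he' | ho
      · rw [W_even q he']; simpa using hT
      · rw [W_odd q ho]; simpa using hT2 ho.add_one
    · have h1 : q ^ n ≤ q ^ (d - 2) := Nat.pow_le_pow_right (by omega) (by omega)
      have h2 : 1 ≤ q ^ (d - 3) := Nat.one_le_pow _ _ (by omega)
      omega
  by_cases hA : n * M + 1 ≤ d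
  · have hnM : n + M ≤ n * M := by nlinarith
    have h1 : q ^ n * q ^ (M - 1) ≤ q ^ (d - 2) := by
      rw [← pow_add]; exact Nat.pow_le_pow_right (by omega) (by omega)
    have h2 : q ^ (M - 1) ≤ q ^ (d - 3) := Nat.pow_le_pow_right (by omega) (by omega)
    calc W q n * p ^ Nat.clog p M ≤ (q ^ n + 1) * q ^ (M - 1) :=
          Nat.mul_le_mul hW (hclog _ (le_pow_pred hp M))
      _ = q ^ n * q ^ (M - 1) + q ^ (M - 1) := by ring
      _ ≤ T := by omega
  have hnM : n + M ≤ d := h.resolve_left hA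
  rcases eq_or_lt_of_le hM2 with hM2' | hM3
  · subst hM2'
    rw [Nat.clog_eq_one (le_refl 2) hp, pow_one]
    rcases eq_or_lt_of_le hnM with he | hlt
    · obtain rfl : d = n + 2 := he.symm
      rcases Nat.even_or_odd n with he' | ho
      · rw [W_even q he']
        have h1 : (q ^ n - 1) * p ≤ q ^ n * q - p := by
          rw [Nat.sub_mul, one_mul]
          exact Nat.sub_le_sub_right (Nat.mul_le_mul_left _ hpq) _
        rw [← pow_succ] at h1
        simp only [show n + 2 - 1 = n + 1 by omega] at hT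
        omega
      · rw [W_odd q ho]
        have hod : Odd (n + 2) := by simpa [Nat.odd_add] using ho
        rcases eq_or_lt_of_le hf with hf1 | hf2
        · simpa using hT1 hod hf1.symm
        · have h2p : 2 * p ≤ q := by
            calc 2 * p ≤ p ^ 2 := by rw [sq]; exact Nat.mul_le_mul_right p hp
              _ ≤ q := hq ▸ Nat.pow_le_pow_right (by omega) hf2
          simp only [show n + 2 - 1 = n + 1 by omega] at hT
          have h3 : q * q ≤ q ^ n := by rw [← sq]; exact Nat.pow_le_pow_right (by omega) hn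
          rw [pow_succ] at hT
          have h4 : (q ^ n + 1) * (2 * p) ≤ (q ^ n + 1) * q := Nat.mul_le_mul_left _ h2p
          have h5 : q + 2 ≤ q ^ n * q := by nlinarith
          have h6 : (q ^ n + 1) * (2 * p) = 2 * ((q ^ n + 1) * p) := by ring
          have h7 : (q ^ n + 1) * q = q ^ n * q + q := by ring
          omega
    · have h1 : q ^ n * q ≤ q ^ (d - 2) := by
        rw [← pow_succ]; exact Nat.pow_le_pow_right (by omega) (by omega)
      have h2 : q ≤ q ^ (d - 3) := Nat.le_self_pow (by omega) q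
      calc W q n * p ≤ (q ^ n + 1) * q := Nat.mul_le_mul hW hpq
        _ = q ^ n * q + q := by ring
        _ ≤ T := by omega
  have key : p ^ Nat.clog p M ≤ q ^ (M - 2) → W q n * p ^ Nat.clog p M ≤ T := fun hk => by
    have h1 : q ^ n * q ^ (M - 2) ≤ q ^ (d - 2) := by
      rw [← pow_add]; exact Nat.pow_le_pow_right (by omega) (by omega)
    have h2 : q ^ (M - 2) ≤ q ^ (d - 3) := Nat.pow_le_pow_right (by omega) (by omega)
    calc W q n * p ^ Nat.clog p M ≤ (q ^ n + 1) * q ^ (M - 2) := Nat.mul_le_mul hW hk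
      _ = q ^ n * q ^ (M - 2) + q ^ (M - 2) := by ring
      _ ≤ T := by omega
  by_cases hgood : 3 ≤ p ∨ 4 ≤ M
  · exact key (hclog _ (le_pow_sub_two hp hM3 hgood))
  obtain rfl : p = 2 := by omega
  obtain rfl : M = 3 := by omega
  have hc : (2 : ℕ) ^ Nat.clog 2 3 = 4 := by norm_num [Nat.clog]
  by_cases hq4 : 4 ≤ q
  · exact key (by rw [hc]; simpa using hq4)
  obtain rfl : q = 2 := by
    rcases eq_or_lt_of_le hf with hf1 | hf2
    · rw [hq, ← hf1, pow_one]
    · have : 2 ^ 2 ≤ q := hq ▸ Nat.pow_le_pow_right (by omega) hf2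
      omega
  rw [hc]
  rcases eq_or_lt_of_le hnM with he | hlt
  · obtain rfl : d = n + 3 := he.symm
    rcases Nat.even_or_odd n with he' | ho
    · rw [W_even 2 he']
      simp only [show n + 3 - 1 = n + 2 by omega, pow_add] at hT
      omega
    · rw [W_odd 2 ho, mul_comm]
      simpa using hT3 (by simpa [Nat.even_add, parity_simps] using ho) rfl
  · obtain ⟨e, rfl⟩ : ∃ e, d = n + 4 + e := ⟨d - n - 4, by omega⟩
    have h1 : 4 ≤ 2 ^ n := (show 2 ^ 2 ≤ 2 ^ n from Nat.pow_le_pow_right (by omega) hn)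
    have h2 : 8 * 2 ^ n ≤ 2 ^ (n + 4 + e - 1) := by
      rw [show (8 : ℕ) = 2 ^ 3 from rfl, ← pow_add]
      exact Nat.pow_le_pow_right (by omega) (by omega)
    omega

/-- Several eigenvalues of norm one and no other. -/
theorem small_blocks_le {p f q d T : ℕ} (hp : 2 ≤ p) (hf : 1 ≤ f) (hq : q = p ^ f) (hd : 3 ≤ d)
    (hT : q ^ (d - 1) - 1 ≤ T) (hT1 : Odd d → f = 1 → (q ^ (d - 2) + 1) * p ≤ T)
    (hT3 : Even d → q = 2 → 4 * (q ^ (d - 3) + 1) ≤ T) (M : ℕ) (hMd : M + 1 ≤ d) :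
    (q + 1) * p ^ Nat.clog p M ≤ T := by
  have hpq : p ≤ q := hq ▸ Nat.le_self_pow (by omega) p
  have hq2 : 2 ≤ q := le_trans hp hpq
  have h23 := two_terms_le hq2 hd
  have hclog : ∀ k, M ≤ p ^ k → p ^ Nat.clog p M ≤ q ^ k := fun k hk =>
    le_trans (Nat.pow_le_pow_right (by omega) (Nat.clog_le_of_le_pow hk)) (Nat.pow_le_pow_left hpq k)
  rcases eq_or_lt_of_le hd with hd3 | hd4
  · subst hd3
    have h1 : p ^ Nat.clog p M ≤ p := by
      refine (Nat.pow_le_pow_right (by omega) (Nat.clog_le_of_le_pow (y := 1) ?_)).trans (pow_one p).le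
      rw [pow_one]; omega
    refine le_trans (Nat.mul_le_mul_left _ h1) ?_
    rcases eq_or_lt_of_le hf with hf1 | hf2
    · simpa using hT1 ⟨1, rfl⟩ hf1.symm
    · have h2p : 2 * p ≤ q := by
        calc 2 * p ≤ p ^ 2 := by rw [sq]; exact Nat.mul_le_mul_right p hp
          _ ≤ q := hq ▸ Nat.pow_le_pow_right (by omega) hf2
      simp only [show 3 - 1 = 2 by norm_num, sq] at hT
      have h4 : (q + 1) * (2 * p) ≤ (q + 1) * q := Nat.mul_le_mul_left _ h2p
      have h5 : q + 2 ≤ q * q := by nlinarith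
      have h6 : (q + 1) * (2 * p) = 2 * ((q + 1) * p) := by ring
      have h7 : (q + 1) * q = q * q + q := by ring
      omega
  have key : p ^ Nat.clog p M ≤ q ^ (d - 3) → (q + 1) * p ^ Nat.clog p M ≤ T := fun hk => by
    have h1 : q * q ^ (d - 3) = q ^ (d - 2) := by rw [← pow_succ']; congr 1; omega
    calc (q + 1) * p ^ Nat.clog p M ≤ (q + 1) * q ^ (d - 3) := Nat.mul_le_mul_left _ hk
      _ = q * q ^ (d - 3) + q ^ (d - 3) := by ring
      _ ≤ T := by omega
  by_cases hgood : 3 ≤ p ∨ 5 ≤ d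
  · refine key (hclog _ ?_)
    rw [show d - 3 = d - 1 - 2 by omega]
    exact le_trans (by omega) (le_pow_sub_two hp (by omega) (by omega))
  obtain rfl : p = 2 := by omega
  obtain rfl : d = 4 := by omega
  have hc : (2 : ℕ) ^ Nat.clog 2 M ≤ 4 := by
    refine (Nat.pow_le_pow_right (by omega) (Nat.clog_le_of_le_pow (y := 2) ?_)).trans (le_refl (2 ^ 2))
    omega
  by_cases hq4 : 4 ≤ q
  · exact key (le_trans hc (by simpa using hq4))
  obtain rfl : q = 2 := by
    rcases eq_or_lt_of_le hf with hf1 | hf2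
    · rw [hq, ← hf1, pow_one]
    · have : 2 ^ 2 ≤ q := hq ▸ Nat.pow_le_pow_right (by omega) hf2
      omega
  have := hT3 ⟨2, rfl⟩ rfl
  omega

/-- A single eigenvalue. -/
theorem scalar_block_le {p f q d T : ℕ} (hp : 2 ≤ p) (hf : 1 ≤ f) (hq : q = p ^ f) (hd : 3 ≤ d)
    (hex : ¬ (d = 3 ∧ q = 2)) (hT : q ^ (d - 1) - 1 ≤ T) (M : ℕ) (hMd : M ≤ d) :
    p ^ Nat.clog p M ≤ T := by
  have hpq : p ≤ q := hq ▸ Nat.le_self_pow (by omega) p
  have hq2 : 2 ≤ q := le_trans hp hpq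
  have h23 := two_terms_le hq2 hd
  by_cases hgood : 3 ≤ p ∨ 4 ≤ d
  · have h1 : p ^ Nat.clog p M ≤ q ^ (d - 2) :=
      le_trans (Nat.pow_le_pow_right (by omega)
        (Nat.clog_le_of_le_pow (hMd.trans (le_pow_sub_two hp hd hgood)))) (Nat.pow_le_pow_left hpq _)
    omega
  obtain rfl : p = 2 := by omega
  obtain rfl : d = 3 := by omega
  have h4 : 4 ≤ q := by
    rcases eq_or_lt_of_le hf with hf1 | hf2
    · exact absurd ⟨rfl, by rw [hq, ← hf1, pow_one]⟩ hex
    · exact hq ▸ (show 2 ^ 2 ≤ 2 ^ f from Nat.pow_le_pow_right (by omega) hf2)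
  have hc : (2 : ℕ) ^ Nat.clog 2 M ≤ 4 := by
    refine (Nat.pow_le_pow_right (by omega) (Nat.clog_le_of_le_pow (y := 2) ?_)).trans (le_refl (2 ^ 2))
    omega
  simp only [show 3 - 1 = 2 by norm_num, sq] at hT
  have : 16 ≤ q * q := Nat.mul_le_mul h4 h4
  omega

end Cfsg.Agent.Classical.PGUOrder
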