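import Mathlib

/-!
# Orbits on the roots of a characteristic polynomial
-/

set_option autoImplicit false

namespace Cfsg.Agent.Classical.PGUOrder

open Polynomial

section Orbits

variable {K : Type*} [DecidableEq K] {τ : K → K}

/-- A multiset invariant under an injective map splits into orbits. -/
theorem exists_orbits (hτ : Function.Injective τ) (r : Multiset K) (hr : r.map τ = r) :
    ∃ O : Finset (Finset K),
      (∀ o ∈ O, o.Nonempty ∧ (∀ a ∈ o, a ∈ r ∧ τ^[o.card] a = a) ∧
        (∀ a ∈ o, ∀ b ∈ o, r.count a = r.count b ∧ ∃ k, τ^[k] a = b)) ∧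
      (∀ a ∈ r, ∃ o ∈ O, a ∈ o) ∧ ∑ o ∈ O, ∑ a ∈ o, r.count a = r.card := by
  classical
  set S := r.toFinset with hS
  have hmem : ∀ a, a ∈ r → τ a ∈ r := fun a ha => hr ▸ Multiset.mem_map_of_mem τ ha
  have hcount : ∀ a, r.count (τ a) = r.count a := fun a => by
    conv_lhs => rw [← hr]
    exact Multiset.count_map_eq_count' τ r hτ a
  have hmem' : ∀ k, ∀ a, a ∈ r → τ^[k] a ∈ r := by
    intro k
    induction k with
    | zero => exact fun a ha => ha
    | succ k ih => intro a ha; rw [Function.iterate_succ_apply']; exact hmem _ (ih a ha)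
  have hcount' : ∀ k a, r.count (τ^[k] a) = r.count a := by
    intro k a
    induction k with
    | zero => rfl
    | succ k ih => rw [Function.iterate_succ_apply', hcount, ih]
  have hper : ∀ a ∈ r, a ∈ Function.periodicPts τ := by
    intro a ha
    obtain ⟨i, j, hne, hij⟩ := Fintype.exists_ne_map_eq_of_card_lt
      (fun i : Fin (S.card + 1) => (⟨τ^[(i : ℕ)] a, Multiset.mem_toFinset.2 (hmem' _ a ha)⟩ : S))
      (by simp)
    have hij' : τ^[(i : ℕ)] a = τ^[(j : ℕ)] a := congrArg Subtype.val hij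
    rcases Nat.lt_or_gt_of_ne (fun h : (i : ℕ) = j => hne (Fin.ext h)) with h | h
    · refine ⟨(j : ℕ) - i, by omega, hτ.iterate i ?_⟩
      rw [← Function.iterate_add_apply, Nat.add_sub_cancel' h.le]
      exact hij'.symm
    · refine ⟨(i : ℕ) - j, by omega, hτ.iterate j ?_⟩
      rw [← Function.iterate_add_apply, Nat.add_sub_cancel' h.le]
      exact hij'
  let orb : K → Finset K := fun a =>
    (Finset.range (Function.minimalPeriod τ a)).image fun k => τ^[k] a
  have hpos : ∀ a ∈ r, 0 < Function.minimalPeriod τ a := fun a ha =>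
    Function.minimalPeriod_pos_of_mem_periodicPts (hper a ha)
  have hcard : ∀ a, (orb a).card = Function.minimalPeriod τ a := fun a => by
    simp only [orb]
    rw [Finset.card_image_of_injOn, Finset.card_range]
    rw [Finset.coe_range]
    exact Function.iterate_injOn_Iio_minimalPeriod
  have hmemorb : ∀ a ∈ r, ∀ b, b ∈ orb a ↔ ∃ k, τ^[k] a = b := by
    intro a ha b
    constructor
    · intro hb
      obtain ⟨k, -, hk⟩ := Finset.mem_image.1 hb
      exact ⟨k, hk⟩
    · rintro ⟨k, rfl⟩
      refine Finset.mem_image.2 ⟨k % Function.minimalPeriod τ a,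
        Finset.mem_range.2 (Nat.mod_lt _ (hpos a ha)), ?_⟩
      exact Function.iterate_mod_minimalPeriod_eq
  have hback : ∀ a ∈ r, ∀ k, ∃ j, τ^[j] (τ^[k] a) = a := by
    intro a ha k
    have hm := hpos a ha
    refine ⟨k * (Function.minimalPeriod τ a - 1), ?_⟩
    rw [← Function.iterate_add_apply,
      show k * (Function.minimalPeriod τ a - 1) + k = Function.minimalPeriod τ a * k by
        obtain ⟨m, hm'⟩ : ∃ m, Function.minimalPeriod τ a = m + 1 := ⟨_, (Nat.sub_add_cancel hm).symm⟩
        rw [hm']; simp only [Nat.add_sub_cancel]; ring]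
    exact (Function.isPeriodicPt_minimalPeriod τ a).mul_const k
  have heq : ∀ a ∈ r, ∀ b ∈ orb a, b ∈ r ∧ orb b = orb a := by
    intro a ha b hb
    obtain ⟨k, rfl⟩ := (hmemorb a ha b).1 hb
    have hbr := hmem' k a ha
    obtain ⟨j, hj⟩ := hback a ha k
    refine ⟨hbr, Finset.ext fun x => ?_⟩
    rw [hmemorb a ha, hmemorb _ hbr]
    constructor
    · rintro ⟨i, rfl⟩
      exact ⟨i + k, Function.iterate_add_apply _ _ _ _⟩
    · rintro ⟨i, rfl⟩
      exact ⟨i + j, by rw [Function.iterate_add_apply, hj]⟩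
  have hself : ∀ a ∈ r, a ∈ orb a := fun a ha => (hmemorb a ha a).2 ⟨0, rfl⟩
  refine ⟨S.image orb, ?_, fun a ha => ⟨orb a, Finset.mem_image_of_mem _ (Multiset.mem_toFinset.2 ha),
    hself a ha⟩, ?_⟩
  · intro o ho
    obtain ⟨a₀, ha₀, rfl⟩ := Finset.mem_image.1 ho
    rw [hS, Multiset.mem_toFinset] at ha₀
    refine ⟨⟨a₀, hself a₀ ha₀⟩, fun a ha => ?_, fun a ha b hb => ?_⟩
    · obtain ⟨har, hao⟩ := heq a₀ ha₀ a ha
      refine ⟨har, ?_⟩
      rw [← hao, hcard]
      exact Function.iterate_minimalPeriod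
    · obtain ⟨har, hao⟩ := heq a₀ ha₀ a ha
      obtain ⟨k, hk⟩ := (hmemorb a har b).1 (hao ▸ hb)
      exact ⟨by rw [← hk, hcount'], k, hk⟩
  · rw [← Multiset.toFinset_sum_count_eq r,
      ← Finset.sum_fiberwise_of_maps_to (g := orb) (fun a ha => Finset.mem_image_of_mem orb ha)
        (fun a => r.count a)]
    refine Finset.sum_congr rfl fun o ho => Finset.sum_congr ?_ fun _ _ => rfl
    obtain ⟨a₀, ha₀, rfl⟩ := Finset.mem_image.1 ho
    rw [Multiset.mem_toFinset] at ha₀
    ext a
    rw [Finset.mem_filter, Multiset.mem_toFinset]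
    exact ⟨fun ha => heq a₀ ha₀ a ha, fun h => h.2 ▸ hself a h.1⟩

end Orbits

variable {K : Type*} [Field K]

theorem roots_reverse (s : Multiset K) (hs : (0 : K) ∉ s) :
    (s.map fun a => X - C a).prod.reverse.roots = s.map fun a => a⁻¹ := by
  induction s using Multiset.induction with
  | empty => rw [Multiset.map_zero, Multiset.prod_zero, ← C_1, reverse_C, roots_C, Multiset.map_zero]
  | cons a s ih =>
    rw [Multiset.mem_cons, not_or] at hs
    have ha : a ≠ 0 := Ne.symm hs.1
    have hrev : (X - C a : K[X]).reverse = C (-a) * (X - C a⁻¹) := by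
      rw [reverse, natDegree_X_sub_C]
      have : reflect 1 (X - C a : K[X]) = 1 - C a * X := by
        rw [reflect_sub, reflect_one_X, reflect_C, pow_one]
      rw [this, mul_sub, ← C_mul, neg_mul, mul_inv_cancel₀ ha, map_neg, map_neg, C_1]
      ring
    have hne : (s.map fun a => X - C a).prod.reverse ≠ 0 := by
      rw [Ne, reverse_eq_zero]
      exact (monic_multiset_prod_of_monic s _ fun a _ => monic_X_sub_C a).ne_zero
    rw [Multiset.map_cons, Multiset.prod_cons, reverse_mul_of_domain, hrev, roots_mul,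
      roots_C_mul _ (neg_ne_zero.2 ha), roots_X_sub_C, ih hs.2, Multiset.map_cons,
      Multiset.singleton_add]
    exact mul_ne_zero (mul_ne_zero (by simpa using ha) (X_sub_C_ne_zero _)) hne

/-- Roots of the characteristic polynomial of a matrix with `Aᵀ (A^σ) = 1`. -/
theorem roots_map_eq [IsAlgClosed K] {n : Type*} [Fintype n] [DecidableEq n] (σ : K →+* K)
    (A : Matrix n n K) (hA : A.transpose * A.map σ = 1) :
    (0 : K) ∉ A.charpoly.roots ∧ A.charpoly.roots.map σ = A.charpoly.roots.map fun a => a⁻¹ := by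
  classical
  have hu : IsUnit A.transpose := (isUnit_iff_exists_and_exists.2
    ⟨⟨_, hA⟩, ⟨_, mul_eq_one_comm.1 hA⟩⟩)
  have hd : A.det ≠ 0 := by
    rw [← Matrix.det_transpose]; exact ((Matrix.isUnit_iff_isUnit_det _).1 hu).ne_zero
  have h0 : (0 : K) ∉ A.charpoly.roots := by
    intro h
    refine hd ?_
    have h' := (mem_roots A.charpoly_monic.ne_zero).1 h
    rw [IsRoot, ← coeff_zero_eq_eval_zero] at h'
    rw [Matrix.det_eq_sign_charpoly_coeff, h', mul_zero]
  refine ⟨h0, ?_⟩
  have hB : A.map σ = A.transpose⁻¹ := (Matrix.inv_eq_right_inv hA).symm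
  have h1 : (A.map σ).charpoly.roots = A.charpoly.roots.map σ := by
    rw [Matrix.charpoly_map, (IsAlgClosed.splits A.charpoly).roots_map]
  rw [← h1, hB, Matrix.charpoly_inv _ hu, Matrix.det_transpose, ← Matrix.reverse_charpoly,
    Matrix.charpoly_transpose, show ((-1 : K[X]) ^ Fintype.card n) = C ((-1 : K) ^ Fintype.card n) by simp,
    ← C_mul, roots_C_mul]
  · conv_lhs => rw [(IsAlgClosed.splits A.charpoly).eq_prod_roots_of_monic A.charpoly_monic]
    exact roots_reverse _ h0
  · simp [hd]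

/-- A power of a matrix whose eigenvalues have equal `L`-th powers is scalar. -/
theorem pow_eq_scalar [IsAlgClosed K] (p : ℕ) [Fact p.Prime] [CharP K p] {n : Type*} [Fintype n]
    [DecidableEq n] (A : Matrix n n K) (L c : ℕ) (ζ : K)
    (hroot : ∀ a ∈ A.charpoly.roots, a ^ L = ζ)
    (hmult : ∀ a, rootMultiplicity a A.charpoly ≤ p ^ c) :
    A ^ (L * p ^ c) = algebraMap K (Matrix n n K) (ζ ^ p ^ c) := by
  classical
  have h1 : A.charpoly ∣ (X ^ L - C ζ) ^ p ^ c := by
    conv_lhs => rw [(IsAlgClosed.splits A.charpoly).eq_prod_roots_of_monic A.charpoly_monic,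
      Finset.prod_multiset_map_count]
    refine Finset.prod_dvd_of_coprime (fun a _ b _ hab => IsCoprime.pow
      (pairwise_coprime_X_sub_C Function.injective_id hab)) fun a ha => ?_
    refine (pow_dvd_pow _ ((count_roots A.charpoly).le.trans (hmult a))).trans (pow_dvd_pow_of_dvd ?_ _)
    rw [dvd_iff_isRoot]
    simp [hroot a (Multiset.mem_toFinset.1 ha)]
  have h2 := aeval_eq_zero_of_dvd_aeval_eq_zero h1 (Matrix.aeval_self_charpoly A)
  rw [sub_pow_char_pow, ← pow_mul, ← map_pow] at h2
  simpa [sub_eq_zero] using h2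

end Cfsg.Agent.Classical.PGUOrder
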