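import Cfsg.Agent.Lib.Classical.UnitaryBasic
import Cfsg.Agent.Lib.Classical.PGUOrder.Arith
import Cfsg.Agent.Lib.Classical.PGUOrder.Roots

/-!
# The upper bound for the orders of elements of the projective general unitary group
-/

set_option autoImplicit false

namespace Cfsg.Agent.Classical.PGUOrder

open Matrix Cfsg.Agent.Forms

variable {F : Type*} [Field F] [Fintype F] {d q : ℕ}

local notation "Mat" => Matrix (Fin d) (Fin d) F

omit [Fintype F] in
theorem mem_center_of_scalar (g : Cfsg.GU d F q) (z : F)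
    (hz : Unitary.gmat g = algebraMap F Mat z) : g ∈ Subgroup.center ↥(Cfsg.GU d F q) := by
  refine Subgroup.mem_center_iff.2 fun h => Subtype.ext (Units.ext ?_)
  show Unitary.gmat h * Unitary.gmat g = Unitary.gmat g * Unitary.gmat h
  rw [hz]
  exact (Algebra.commutes z _).symm

omit [Fintype F] in
theorem gmat_pow (g : Cfsg.GU d F q) (N : ℕ) : Unitary.gmat (g ^ N) = Unitary.gmat g ^ N := by
  simp [Unitary.gmat]

/-- The upper bound. -/
theorem orderOf_le {p f T : ℕ} [Fact p.Prime] (hf : 1 ≤ f) (hq : q = p ^ f)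
    (hF : Fintype.card F = q ^ 2) (hd : 3 ≤ d) (hex : ¬ (d = 3 ∧ q = 2))
    (hT : q ^ (d - 1) - 1 ≤ T) (hT1 : Odd d → f = 1 → (q ^ (d - 2) + 1) * p ≤ T)
    (hT2 : Even d → q ^ (d - 1) + 1 ≤ T) (hT3 : Even d → q = 2 → 4 * (q ^ (d - 3) + 1) ≤ T)
    (g : Cfsg.GU d F q) :
    orderOf (QuotientGroup.mk g : ↥(Cfsg.GU d F q) ⧸ Subgroup.center ↥(Cfsg.GU d F q)) ≤ T := by
  classical
  have hp : p.Prime := Fact.out
  haveI : CharP F p := charP_of_card_eq_prime_pow (f := f * 2) (by rw [hF, hq, pow_mul])
  let K := AlgebraicClosure F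
  haveI : CharP K p := charP_of_injective_algebraMap (algebraMap F K).injective p
  let σ : K →+* K := iterateFrobenius K p f
  have hσ : ∀ x : K, σ x = x ^ q := fun x => by rw [hq]; exact iterateFrobenius_def p f x
  have hq2 : 2 ≤ q := hq ▸ le_trans hp.two_le (Nat.le_self_pow (by omega) p)
  have hq1 : 1 ≤ q := by omega
  set A : Matrix (Fin d) (Fin d) K := (Unitary.gmat g).map (algebraMap F K) with hAdef
  have hA : Aᵀ * A.map σ = 1 := by
    have h := congrArg (fun M : Mat => M.map (algebraMap F K))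
      ((Unitary.preserves_iff hF _).1 g.2)
    simp only [Matrix.map_mul, Matrix.map_one _ (map_zero _) (map_one _)] at h
    rw [← h, hAdef, Matrix.transpose_map, Matrix.map_map, Matrix.map_map]
    congr 2
    funext x
    simp [hσ]
  obtain ⟨h0, hrσ⟩ := roots_map_eq σ A hA
  set r := A.charpoly.roots with hr
  have hrcard : r.card = d := by
    rw [hr, ← (IsAlgClosed.splits A.charpoly).natDegree_eq_card_roots,
      Matrix.charpoly_natDegree_eq_dim, Fintype.card_fin]
  let τ : K → K := fun x => (x ^ q)⁻¹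
  have hτ : Function.Injective τ := fun a b h => σ.injective (by rw [hσ, hσ]; exact inv_injective h)
  have hrτ : r.map τ = r := by
    have h := congrArg (Multiset.map fun a : K => a⁻¹) hrσ
    simp only [Multiset.map_map, Function.comp_def, inv_inv, Multiset.map_id', hσ] at h
    exact h
  obtain ⟨O, hO, hcov, hsum⟩ := exists_orbits hτ r hrτ
  let m : Finset K → ℕ := fun o => o.sup fun a => r.count a
  have hm : ∀ o ∈ O, ∀ a ∈ o, r.count a = m o := fun o ho a ha =>
    le_antisymm (Finset.le_sup (f := fun a => r.count a) ha)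
      (Finset.sup_le fun b hb => (((hO o ho).2.2 a ha b hb).1).ge)
  have hm1 : ∀ o ∈ O, 1 ≤ m o := fun o ho => by
    obtain ⟨a, ha⟩ := (hO o ho).1
    rw [← hm o ho a ha]
    exact Multiset.one_le_count_iff_mem.2 ((hO o ho).2.1 a ha).1
  have hn1 : ∀ o ∈ O, 1 ≤ o.card := fun o ho => Finset.card_pos.2 (hO o ho).1
  have hsum' : ∑ o ∈ O, o.card * m o = d := by
    rw [← hrcard, ← hsum]
    refine Finset.sum_congr rfl fun o ho => ?_
    rw [Finset.sum_congr rfl (hm o ho), Finset.sum_const, smul_eq_mul]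
  obtain ⟨o₁, ho₁⟩ : O.Nonempty := by
    by_contra h
    rw [Finset.not_nonempty_iff_eq_empty.1 h, Finset.sum_empty] at hsum'
    omega
  set M := O.sup m with hM
  obtain ⟨om, hom, homM⟩ := Finset.exists_mem_eq_sup O ⟨o₁, ho₁⟩ m
  rw [← hM] at homM
  have hM1 : 1 ≤ M := homM ▸ hm1 om hom
  -- powers along an orbit
  have hiter : ∀ (k : ℕ) (a : K), τ^[k] a = a ^ ((-(q : ℤ)) ^ k) := by
    intro k a
    induction k with
    | zero => simp
    | succ k ih =>
      rw [Function.iterate_succ_apply', ih, pow_succ, _root_.zpow_mul, _root_.zpow_neg, zpow_natCast]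
  have hne0 : ∀ o ∈ O, ∀ a ∈ o, a ≠ 0 := fun o ho a ha h => h0 (h ▸ ((hO o ho).2.1 a ha).1)
  have hW : ∀ o ∈ O, ∀ a ∈ o, a ^ W q o.card = 1 := by
    intro o ho a ha
    have h := ((hO o ho).2.1 a ha).2
    rw [hiter] at h
    have ha0 := hne0 o ho a ha
    have h1 : a ^ ((-(q : ℤ)) ^ o.card - 1) = 1 := by
      rw [zpow_sub₀ ha0, h, zpow_one, div_self ha0]
    have h2 := congrArg (fun x : K => x ^ ((-1 : ℤ) ^ o.card)) h1
    simp only [_root_.one_zpow, ← _root_.zpow_mul] at h2
    rw [show ((-(q : ℤ)) ^ o.card - 1) * (-1) ^ o.card = (W q o.card : ℤ) by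
      rw [W_int hq1, sub_mul, ← mul_pow, one_mul, neg_mul_neg, mul_one], zpow_natCast] at h2
    exact h2
  -- the order
  have key : ∀ L, 0 < L → ∀ ζ : K, (∀ o ∈ O, ∀ a ∈ o, a ^ L = ζ) →
      L * p ^ Nat.clog p M ≤ T →
      orderOf (QuotientGroup.mk g : ↥(Cfsg.GU d F q) ⧸ Subgroup.center ↥(Cfsg.GU d F q)) ≤ T := by
    intro L hL ζ hζ hle
    refine le_trans (Nat.le_of_dvd (Nat.mul_pos hL (pow_pos hp.pos _)) (orderOf_dvd_of_pow_eq_one ?_)) hle
    rw [← QuotientGroup.mk_pow, QuotientGroup.eq_one_iff]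
    have h := pow_eq_scalar p A L (Nat.clog p M) ζ (fun a ha => by
        obtain ⟨o, ho, hao⟩ := hcov a ha
        exact hζ o ho a hao) (fun a => by
        rw [← Polynomial.count_roots]
        by_cases ha : a ∈ r
        · obtain ⟨o, ho, hao⟩ := hcov a ha
          exact (hm o ho a hao).le.trans ((Finset.le_sup ho).trans (Nat.le_pow_clog hp.one_lt _))
        · rw [Multiset.count_eq_zero_of_notMem ha]; exact Nat.zero_le _)
    set N := L * p ^ Nat.clog p M
    have hmap : (Unitary.gmat g ^ N).map (algebraMap F K) = algebraMap K _ (ζ ^ p ^ Nat.clog p M) := by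
      rw [← h, hAdef]
      exact map_pow ((algebraMap F K).mapMatrix) _ _
    let i₀ : Fin d := ⟨0, by omega⟩
    refine mem_center_of_scalar _ ((Unitary.gmat g ^ N) i₀ i₀) ?_
    rw [gmat_pow]
    ext i j
    refine (algebraMap F K).injective ?_
    have e1 := congrFun (congrFun hmap i) j
    have e0 := congrFun (congrFun hmap i₀) i₀
    simp only [Matrix.map_apply, Matrix.algebraMap_matrix_apply, Algebra.algebraMap_self,
      RingHom.id_apply, if_true] at e1 e0
    rw [e1, Matrix.algebraMap_matrix_apply]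
    by_cases hij : i = j
    · simp [hij, e0]
    · simp [hij]
  have hMd : ∀ o ∈ O, o.card * m o ≤ d := fun o ho =>
    hsum' ▸ Finset.single_le_sum (f := fun o => o.card * m o) (fun _ _ => Nat.zero_le _) ho
  have hpair : ∀ o ∈ O, ∀ o' ∈ O, o ≠ o' → o.card * m o + o'.card * m o' ≤ d := by
    intro o ho o' ho' hne
    rw [← hsum', ← Finset.sum_pair (f := fun o => o.card * m o) hne]
    exact Finset.sum_le_sum_of_subset (Finset.insert_subset ho (Finset.singleton_subset_iff.2 ho'))
  set O2 := O.filter fun o => 2 ≤ o.card with hO2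
  have hRpos : ∀ n, 1 ≤ n → 0 < R q n := by
    intro n hn
    refine Nat.pos_of_ne_zero fun h => ?_
    have h1 := succ_mul_R hq1 n
    rw [h, mul_zero] at h1
    have h2 : 2 ≤ q ^ n := hq2.trans (Nat.le_self_pow (by omega) q)
    unfold W at h1
    split at h1 <;> omega
  have hcp : p ^ Nat.clog p M ≤ q ^ (M - 1) :=
    le_trans (Nat.pow_le_pow_right hp.pos (Nat.clog_le_of_le_pow (le_pow_pred hp.two_le M)))
      (Nat.pow_le_pow_left (hq ▸ Nat.le_self_pow (by omega) p) _)
  by_cases h2 : 2 ≤ O2.card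
  · -- several big blocks
    set P := ∏ o ∈ O2, R q o.card with hP
    have hPpos : 0 < P := Finset.prod_pos fun o ho => hRpos _ (hn1 o (Finset.mem_filter.1 ho).1)
    refine key ((q + 1) * P) (by positivity) 1 (fun o ho a ha => ?_) ?_
    · obtain ⟨t, ht⟩ : W q o.card ∣ (q + 1) * P := by
        by_cases hn : 2 ≤ o.card
        · rw [← succ_mul_R hq1]
          exact mul_dvd_mul_left _ (Finset.dvd_prod_of_mem _ (Finset.mem_filter.2 ⟨ho, hn⟩))
        · rw [show o.card = 1 by have := hn1 o ho; omega, W_odd q odd_one, pow_one]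
          exact dvd_mul_right _ _
      rw [ht, pow_mul, hW o ho a ha, one_pow]
    · have hB := prod_le hq2 (fun o : Finset K => o.card) O2 (fun o ho => (Finset.mem_filter.1 ho).2) h2
      set B := ∑ o ∈ O2, o.card with hBdef
      have hBm : B ≤ ∑ o ∈ O2, o.card * m o := Finset.sum_le_sum fun o ho =>
        Nat.le_mul_of_pos_right _ (hm1 o (Finset.mem_filter.1 ho).1)
      have hB1 : 1 ≤ B := by
        obtain ⟨o, ho⟩ := Finset.card_pos.1 (by omega : 0 < O2.card)
        exact (hn1 o (Finset.mem_filter.1 ho).1).trans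
          (Finset.single_le_sum (f := fun o : Finset K => o.card) (fun _ _ => Nat.zero_le _) ho)
      have hBM : B + (M - 1) ≤ d := by
        by_cases hmem : om ∈ O2
        · have h1 : ∑ o ∈ O2, o.card * m o ≤ d :=
            hsum' ▸ Finset.sum_le_sum_of_subset (Finset.filter_subset _ _)
          have h3 : B + (M - 1) ≤ ∑ o ∈ O2, o.card * m o := by
            rw [hBdef, ← Finset.add_sum_erase _ _ hmem, ← Finset.add_sum_erase _ _ hmem, homM]
            have h5 : ∑ o ∈ O2.erase om, o.card ≤ ∑ o ∈ O2.erase om, o.card * m o :=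
              Finset.sum_le_sum fun o ho => Nat.le_mul_of_pos_right _
                (hm1 o (Finset.mem_filter.1 (Finset.mem_of_mem_erase ho)).1)
            have h4 := hn1 om hom
            have h6 := hm1 om hom
            have h7 : om.card + (m om - 1) ≤ om.card * m om := by
              obtain ⟨j, hj⟩ : ∃ j, m om = j + 1 := ⟨m om - 1, by omega⟩
              rw [hj]; simp only [Nat.add_sub_cancel]; nlinarith
            omega
          omega
        · have h1 : ∑ o ∈ insert om O2, o.card * m o ≤ d :=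
            hsum' ▸ Finset.sum_le_sum_of_subset (Finset.insert_subset hom (Finset.filter_subset _ _))
          rw [Finset.sum_insert hmem] at h1
          have := hm1 om hom
          have h4 : M ≤ om.card * m om := homM ▸ Nat.le_mul_of_pos_left _ (hn1 om hom)
          omega
      refine le_trans ?_ hT
      have hstep : (q + 1) * P * p ^ Nat.clog p M + q ^ (M - 1) ≤ q ^ (B - 1) * q ^ (M - 1) := by
        rw [← hP] at hB
        have := Nat.mul_le_mul_right (q ^ (M - 1)) hB
        have := Nat.mul_le_mul_left ((q + 1) * P) hcp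
        nlinarith
      have : q ^ (B - 1) * q ^ (M - 1) ≤ q ^ (d - 1) := by
        rw [← pow_add]; exact Nat.pow_le_pow_right (by omega) (by omega)
      have : 1 ≤ q ^ (M - 1) := Nat.one_le_pow _ _ (by omega)
      omega
  by_cases h1 : O.card = 1
  · -- a single block
    obtain ⟨o, rfl⟩ := Finset.card_eq_one.1 h1
    have ho : o ∈ ({o} : Finset (Finset K)) := Finset.mem_singleton_self _
    rw [Finset.sum_singleton] at hsum'
    have hMo : M = m o := by rw [hM, Finset.sup_singleton]
    obtain ⟨a₀, ha₀⟩ := (hO o ho).1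
    set n := o.card with hn
    refine key (R q n) (hRpos n (hn1 o ho)) (a₀ ^ R q n) (fun o' ho' a ha => ?_) ?_
    · obtain rfl := Finset.mem_singleton.1 ho'
      obtain ⟨k, rfl⟩ := ((hO _ ho).2.2 a₀ ha₀ a ha).2
      clear ha
      induction k with
      | zero => rfl
      | succ k ih =>
        rw [Function.iterate_succ_apply']
        show ((τ^[k] a₀ ^ q)⁻¹) ^ R q n = a₀ ^ R q n
        rw [inv_pow, ← pow_mul, mul_comm q, pow_mul, ih]
        refine inv_eq_of_mul_eq_one_right ?_
        rw [← pow_succ, ← pow_mul, mul_comm, succ_mul_R hq1, hW _ ho a₀ ha₀]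
    · rcases Nat.lt_or_ge n 2 with hn2 | hn2
      · have hnone : n = 1 := by have := hn1 o ho; omega
        rw [hnone, R_one, one_mul]
        refine scalar_block_le hp.two_le hf hq hd hex hT M ?_
        rw [hnone, one_mul] at hsum'
        omega
      · have hR := R_lt hq2 hn2
        rcases eq_or_lt_of_le hM1 with hM' | hM'
        · rw [← hM', Nat.clog_one_right, pow_zero, mul_one]
          have : n = d := by rw [← hsum', ← hMo, ← hM', mul_one]
          rw [this] at hR ⊢
          omega
        · refine le_trans (Nat.mul_le_mul (by omega : R q n ≤ q ^ (n - 1)) hcp) ?_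
          rw [← pow_add]
          have h3 : n + M ≤ d := by rw [← hsum', ← hMo]; nlinarith
          have h4 : q ^ (n - 1 + (M - 1)) ≤ q ^ (d - 2) := Nat.pow_le_pow_right (by omega) (by omega)
          have := two_terms_le hq2 hd
          omega
  have hother : ∀ o ∈ O, ∃ o' ∈ O, o' ≠ o := fun o ho => by
    by_contra h
    push Not at h
    exact h1 (Finset.card_eq_one.2 ⟨o, Finset.eq_singleton_iff_unique_mem.2 ⟨ho, h⟩⟩)
  by_cases h0' : O2.card = 0
  · -- only eigenvalues of norm one
    have hall : ∀ o ∈ O, o.card = 1 := fun o ho => by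
      by_contra h
      have : o ∈ O2 := Finset.mem_filter.2 ⟨ho, by have := hn1 o ho; omega⟩
      rw [Finset.card_eq_zero.1 h0'] at this
      simp at this
    refine key (q + 1) (by omega) 1 (fun o ho a ha => ?_) ?_
    · have := hW o ho a ha
      rwa [hall o ho, W_odd q odd_one, pow_one] at this
    · obtain ⟨o', ho', hne⟩ := hother om hom
      have h3 := hpair om hom o' ho' (Ne.symm hne)
      rw [hall om hom, hall o' ho', one_mul, one_mul, ← homM] at h3
      have := hm1 o' ho'
      exact small_blocks_le hp.two_le hf hq hd hT hT1 hT3 M (by omega)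
  obtain ⟨o, hoO2⟩ := Finset.card_pos.1 (Nat.pos_of_ne_zero h0')
  have hoO := (Finset.mem_filter.1 hoO2).1
  have hon : 2 ≤ o.card := (Finset.mem_filter.1 hoO2).2
  have hrest : ∀ o' ∈ O, o' ≠ o → o'.card = 1 := fun o' ho' hne => by
    by_contra h
    have h' : o' ∈ O2 := Finset.mem_filter.2 ⟨ho', by have := hn1 o' ho'; omega⟩
    exact h2 (Finset.one_lt_card.2 ⟨o', h', o, hoO2, hne⟩)
  refine key (W q o.card) ?_ 1 (fun o' ho' a ha => ?_) ?_
  · rw [← succ_mul_R hq1]; exact Nat.mul_pos (by omega) (hRpos _ (hn1 o hoO))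
  · by_cases he : o' = o
    · subst he; exact hW _ ho' a ha
    · have h3 := hW o' ho' a ha
      rw [hrest o' ho' he, W_odd q odd_one, pow_one] at h3
      obtain ⟨t, ht⟩ := dvd_W hq1 o.card
      rw [ht, pow_mul, h3, one_pow]
  · refine one_block_le hp.two_le hf hq hd hT hT1 hT2 hT3 o.card M hon hM1 ?_
    obtain ⟨o', ho', hne⟩ := hother o hoO
    have := hm1 o' ho'
    have h3 := hpair o hoO o' ho' (Ne.symm hne)
    rw [hrest o' ho' hne, one_mul] at h3
    by_cases he : om = o
    · left; rw [he] at homM; rw [homM]; omega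
    · right
      have h4 := hpair o hoO om hom (Ne.symm he)
      rw [hrest om hom he, one_mul, ← homM] at h4
      have := Nat.le_mul_of_pos_right o.card (hm1 o hoO)
      omega

end Cfsg.Agent.Classical.PGUOrder
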