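import Cfsg.Agent.S2260
import Cfsg.Agent.S2588
import Cfsg.Agent.Lib.Classical.TransposeConj
import Cfsg.Agent.Lib.Classical.UnitaryRegular
import Cfsg.Agent.Lib.Classical.PGUOrder.Upper

/-!
# Elements of large order in the projective general unitary group
-/

set_option autoImplicit false
set_option linter.style.haveILetI false

namespace Cfsg.Agent.Classical.PGUOrder

open Matrix Cfsg.Agent.Forms

variable {F : Type*} [Field F] [Fintype F] {q : ℕ} (hF : Fintype.card F = q ^ 2)

include hF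

/-- A unit of a commutative algebra inverted by a semilinear automorphism gives a unitary element. -/
theorem exists_of_algebra {n : ℕ} {R : Type*} [CommRing R] [Algebra F R]
    (b : Module.Basis (Fin n) F R) (ψ : R ≃+* R)
    (hψ : ∀ c : F, ψ (algebraMap F R c) = algebraMap F R (c ^ q)) (α : Rˣ)
    (hα : ψ (α : R) = ((α⁻¹ : Rˣ) : R)) : ∃ B : ↥(Cfsg.GU n F q), orderOf B = orderOf α := by
  classical
  let L := Algebra.leftMulMatrix b
  let P : Matrix (Fin n) (Fin n) F := Matrix.of fun i j => b.repr (ψ (b j)) i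
  let Q : Matrix (Fin n) (Fin n) F := Matrix.of fun i j => b.repr (ψ.symm (b j)) i
  let s : Matrix (Fin n) (Fin n) F → Matrix (Fin n) (Fin n) F := fun M => M.map fun x => x ^ q
  have hsum : ∀ x : R, ψ x = ∑ i, (b.repr x i) ^ q • ψ (b i) := by
    intro x
    conv_lhs => rw [← b.sum_repr x, map_sum]
    refine Finset.sum_congr rfl fun i _ => ?_
    rw [Algebra.smul_def, map_mul, hψ, ← Algebra.smul_def]
  have key : ∀ x : R, L (ψ x) * P = P * s (L x) := by
    intro x
    ext i j
    have e : ψ x * ψ (b j) = ∑ k, (b.repr (x * b j) k) ^ q • ψ (b k) := by rw [← map_mul, hsum]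
    have h1 : (L (ψ x) * P) i j = b.repr (ψ x * ψ (b j)) i := by
      rw [← Algebra.leftMulMatrix_mulVec_repr b (ψ x) (ψ (b j))]
      rfl
    rw [h1, e, map_sum, Finsupp.finsetSum_apply, Matrix.mul_apply]
    refine Finset.sum_congr rfl fun k _ => ?_
    simp [s, P, L, Algebra.leftMulMatrix_eq_repr_mul, mul_comm]
  have hPQ : P * s Q = 1 := by
    ext i j
    have e := hsum (ψ.symm (b j))
    rw [RingEquiv.apply_symm_apply] at e
    have h := congrArg (fun z => b.repr z i) e
    simp only [map_sum, Finsupp.finsetSum_apply, Module.Basis.repr_self, map_smul, Finsupp.smul_apply,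
      smul_eq_mul, Finsupp.single_apply] at h
    rw [Matrix.one_apply, Matrix.mul_apply]
    simp only [s, P, Q, Matrix.map_apply, Matrix.of_apply]
    by_cases hij : i = j
    · subst hij; rw [if_pos rfl]; simpa [mul_comm] using h.symm
    · rw [if_neg hij]; simpa [mul_comm, Ne.symm hij] using h.symm
  let Pu : (Matrix (Fin n) (Fin n) F)ˣ := ⟨P, s Q, hPQ, mul_eq_one_comm.1 hPQ⟩
  let A : GL (Fin n) F := Units.map L.toRingHom.toMonoidHom α
  have hconj : IsConj (A : Matrix (Fin n) (Fin n) F)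
      (((A : Matrix (Fin n) (Fin n) F).map fun x : F => x ^ q).transpose)⁻¹ := by
    set N := s Q * L (α : R) * P with hN
    have h1 : s (L (α : R)) = s Q * L (ψ (α : R)) * P := by
      rw [mul_assoc, key, ← mul_assoc, mul_eq_one_comm.1 hPQ, one_mul]
    have h2 : s (L (α : R)) * N = 1 := by
      rw [h1, hN, hα]
      simp only [mul_assoc]
      rw [← mul_assoc P (s Q), hPQ, one_mul, ← mul_assoc (L _) (L _), ← map_mul, Units.inv_mul,
        map_one, one_mul]
      exact mul_eq_one_comm.1 hPQ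
    have h3 : (((A : Matrix (Fin n) (Fin n) F).map fun x : F => x ^ q).transpose)⁻¹ = Nᵀ :=
      Matrix.inv_eq_left_inv (by
        show Nᵀ * (s (L (α : R)))ᵀ = 1
        rw [← transpose_mul, h2, transpose_one])
    rw [h3]
    refine IsConj.trans ?_ (TransposeConj.isConj_transpose N)
    refine ⟨Pu⁻¹, ?_⟩
    show s Q * L (α : R) = N * s Q
    rw [hN, mul_assoc _ P, hPQ, mul_one]
  obtain ⟨B, hB⟩ := (Cfsg.Agent.S2588.result hF A).2 hconj
  refine ⟨B, ?_⟩
  obtain ⟨c, hc⟩ := isConj_iff.1 hB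
  rw [← orderOf_injective (Cfsg.GU n F q).subtype Subtype.coe_injective B, Subgroup.coe_subtype, ← hc,
    ← MulAut.conj_apply, MulEquiv.orderOf_eq,
    orderOf_injective (Units.map L.toRingHom.toMonoidHom)
      (Units.map_injective (Algebra.leftMulMatrix_injective b))]

omit hF in
theorem exists_orderOf {G : Type*} [Group G] [Finite G] [IsCyclic G] {k : ℕ} (hk : k ∣ Nat.card G) :
    ∃ a : G, orderOf a = k := by
  obtain ⟨z, hz⟩ := IsCyclic.exists_ofOrder_eq_natCard (α := G)
  exact ⟨z ^ (Nat.card G / k), by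
    rw [← hz, orderOf_pow_orderOf_div (orderOf_pos z).ne' (hz ▸ hk)]⟩

variable {p f : ℕ} [Fact p.Prime] (hq : q = p ^ f)

include hq

/-- A torus element. -/
theorem exists_torus (n : ℕ) (hn : 1 ≤ n) : ∃ B : ↥(Cfsg.GU n F q), orderOf B = W q n := by
  classical
  haveI : CharP F p := charP_of_card_eq_prime_pow (f := f * 2) (by rw [hF, hq, pow_mul])
  have hq1 : 1 ≤ q := by have := HermStd.one_lt_q hF; omega
  have hfix : ∀ (c : F) (j : ℕ), c ^ q ^ (2 * j) = c := fun c j => by
    rw [pow_mul, ← hF, FiniteField.pow_card_pow]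
  rcases Nat.even_or_odd n with ⟨k, hk⟩ | ho
  · haveI : NeZero k := ⟨by omega⟩
    let E := FiniteField.Extension F p k
    haveI : CharP E p := charP_of_injective_algebraMap (algebraMap F E).injective p
    haveI : Finite E := Module.finite_of_finite F
    have hcard : Nat.card Eˣ = W q n := by
      rw [Nat.card_units, FiniteField.natCard_extension, Nat.card_eq_fintype_card, hF, ← pow_mul,
        W_even q ⟨k, hk⟩, hk, two_mul]
    obtain ⟨a, ha⟩ := exists_orderOf (G := Eˣ) (k := W q n) hcard.symm.dvd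
    let Φ₁ := iterateFrobeniusEquiv E p (f * (2 * k - 1))
    let Φ₂ := iterateFrobeniusEquiv E p f
    let ψ : E × E ≃+* E × E := (RingEquiv.prodComm).trans
      { toFun := fun x => (Φ₁ x.1, Φ₂ x.2)
        invFun := fun x => (Φ₁.symm x.1, Φ₂.symm x.2)
        left_inv := fun x => by simp
        right_inv := fun x => by simp
        map_mul' := fun x y => by simp
        map_add' := fun x y => by simp }
    have hΦ₁ : ∀ x : E, Φ₁ x = x ^ q ^ (2 * k - 1) := fun x => by
      rw [iterateFrobeniusEquiv_def, hq, ← pow_mul]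
    have hΦ₂ : ∀ x : E, Φ₂ x = x ^ q := fun x => by rw [iterateFrobeniusEquiv_def, hq]
    let α : (E × E)ˣ := MulEquiv.prodUnits.symm (a, (a ^ q)⁻¹)
    obtain ⟨B, hB⟩ := exists_of_algebra hF (Module.finBasisOfFinrankEq F (E × E)
      (n := n) (by rw [Module.finrank_prod, FiniteField.finrank_extension]; omega)) ψ
      (fun c => by
        show (Φ₁ (algebraMap F E c), Φ₂ (algebraMap F E c)) = (algebraMap F E _, algebraMap F E _)
        rw [hΦ₁, hΦ₂, ← map_pow, ← map_pow, show 2 * k - 1 = 2 * (k - 1) + 1 by omega, pow_succ,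
          pow_mul c, hfix]) α (by
        show (Φ₁ ((((a ^ q)⁻¹ : Eˣ)) : E), Φ₂ ((a : Eˣ) : E)) = (((a⁻¹ : Eˣ) : E), ((((a ^ q)⁻¹)⁻¹ : Eˣ) : E))
        rw [hΦ₁, hΦ₂, inv_inv, Units.val_pow_eq_pow_val, Prod.mk.injEq]
        refine ⟨?_, rfl⟩
        rw [← Units.val_pow_eq_pow_val]
        refine congrArg Units.val ?_
        rw [inv_pow, _root_.inv_inj, ← pow_mul, ← pow_succ', show 2 * k - 1 + 1 = n by omega]
        have h1 : a ^ W q n = 1 := ha ▸ pow_orderOf_eq_one a
        rw [W_even q ⟨k, hk⟩] at h1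
        calc a ^ q ^ n = a ^ (q ^ n - 1) * a := by
              rw [← pow_succ, Nat.sub_add_cancel (Nat.one_le_pow _ _ hq1)]
          _ = a := by rw [h1, one_mul])
    refine ⟨B, hB.trans ?_⟩
    show orderOf (MulEquiv.prodUnits.symm (a, (a ^ q)⁻¹)) = _
    rw [MulEquiv.orderOf_eq, Prod.orderOf, orderOf_inv]
    rw [Nat.lcm_eq_left (orderOf_pow_dvd q)]
    exact ha
  · haveI : NeZero n := ⟨by omega⟩
    let E := FiniteField.Extension F p n
    haveI : CharP E p := charP_of_injective_algebraMap (algebraMap F E).injective p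
    haveI : Finite E := Module.finite_of_finite F
    have hcard : Nat.card Eˣ = (q ^ n - 1) * (q ^ n + 1) := by
      rw [Nat.card_units, FiniteField.natCard_extension, Nat.card_eq_fintype_card, hF,
        mul_comm (q ^ n - 1), ← Nat.sq_sub_sq, one_pow, ← pow_mul, ← pow_mul, mul_comm]
    obtain ⟨a, ha⟩ := exists_orderOf (G := Eˣ) (k := W q n) (by
      rw [hcard, W_odd q ho]; exact dvd_mul_left _ _)
    obtain ⟨B, hB⟩ := exists_of_algebra hF
      (Module.finBasisOfFinrankEq F E (FiniteField.finrank_extension F p n))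
      (iterateFrobeniusEquiv E p (f * n))
      (fun c => by
        obtain ⟨j, hj⟩ := ho
        have hc : c ^ q ^ n = c ^ q := by rw [hj, pow_succ, pow_mul c, hfix]
        rw [iterateFrobeniusEquiv_def, pow_mul p, ← hq, ← map_pow, hc]) a (by
        rw [iterateFrobeniusEquiv_def, pow_mul p, ← hq, ← Units.val_pow_eq_pow_val]
        refine congrArg Units.val (eq_inv_of_mul_eq_one_left ?_)
        rw [← pow_succ, ← W_odd q ho, ← ha, pow_orderOf_eq_one])
    exact ⟨B, hB.trans ha⟩

omit hq [Fact p.Prime]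

theorem central_eq_scalar {d : ℕ} (hd : 2 ≤ d) (g : Cfsg.GU d F q)
    (hg : g ∈ Subgroup.center ↥(Cfsg.GU d F q)) :
    ∃ z : F, Unitary.gmat g = algebraMap F _ z := by
  classical
  rw [Subgroup.mem_center_iff] at hg
  obtain ⟨ζ, hζ, hζ1, -⟩ := Unitary.exists_normOne_ne hF
  have hoff : ∀ i j : Fin d, i ≠ j → Unitary.gmat g i j = 0 := by
    intro i j hij
    have h : Matrix.diagonal (fun k => if k = i then ζ else 1) * Unitary.gmat g =
        Unitary.gmat g * Matrix.diagonal (fun k => if k = i then ζ else 1) :=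
      congrArg (fun x : Cfsg.GU d F q => Unitary.gmat x)
        (hg (Unitary.diagGU hF (fun k => if k = i then ζ else 1) fun k => by split_ifs <;> simp [hζ]))
    have h2 := congrFun (congrFun h i) j
    rw [Matrix.diagonal_mul, Matrix.mul_diagonal, if_pos rfl, if_neg (Ne.symm hij), mul_one] at h2
    by_contra h0
    exact hζ1 (mul_right_cancel₀ h0 (h2.trans (one_mul _).symm))
  let i₀ : Fin d := ⟨0, by omega⟩
  refine ⟨Unitary.gmat g i₀ i₀, ?_⟩
  have hdiag : ∀ j : Fin d, Unitary.gmat g j j = Unitary.gmat g i₀ i₀ := by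
    intro j
    by_cases hij : i₀ = j
    · rw [hij]
    obtain ⟨v, hv, hvi, hvj, -⟩ := Unitary.exists_isotropic_pair hF i₀ j hij
    obtain ⟨c, hc0, hc⟩ := Unitary.exists_traceZero hF
    have h : Unitary.mat (Unitary.tvu hF hv hc) * Unitary.gmat g =
        Unitary.gmat g * Unitary.mat (Unitary.tvu hF hv hc) :=
      congrArg (fun x : Cfsg.GU d F q => Unitary.gmat x) (hg (Unitary.suToGU (Unitary.tvu hF hv hc)))
    have h2 := congrFun (congrFun h j) i₀
    simp only [Matrix.mul_apply] at h2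
    rw [Finset.sum_eq_single i₀ (fun k _ hk => by rw [hoff k i₀ hk, mul_zero]) (by simp),
      Finset.sum_eq_single j (fun k _ hk => by rw [hoff j k hk.symm, zero_mul]) (by simp)] at h2
    have e : Unitary.mat (Unitary.tvu hF hv hc) j i₀ = c * (v j * v i₀ ^ q) := by
      show Cfsg.unitaryTransvection d q v c j i₀ = _
      simp [Cfsg.unitaryTransvection, Matrix.one_apply, Ne.symm hij, Matrix.vecMulVec]
    rw [e, hvi, one_pow, mul_one, mul_comm (Unitary.gmat g j j)] at h2
    exact (mul_left_cancel₀ (mul_ne_zero hc0 hvj) h2).symm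
  ext i j
  by_cases hij : i = j
  · subst hij; simp [Matrix.algebraMap_matrix_apply, hdiag i]
  · simp [Matrix.algebraMap_matrix_apply, hoff i j hij, hij]

/-- The block diagonal element. -/
theorem exists_block {n m : ℕ} (a : Cfsg.GU n F q) (b : Cfsg.GU m F q) :
    ∃ g : Cfsg.GU (n + m) F q, Unitary.gmat g =
      Matrix.reindexAlgEquiv F F finSumFinEquiv
        (Matrix.fromBlocks (Unitary.gmat a) 0 0 (Unitary.gmat b)) := by
  have ha : (Unitary.gmat a)ᵀ * (Unitary.gmat a).map (HermStd.qHom hF) = 1 :=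
    (Unitary.preserves_iff hF _).1 a.2
  have hb : (Unitary.gmat b)ᵀ * (Unitary.gmat b).map (HermStd.qHom hF) = 1 :=
    (Unitary.preserves_iff hF _).1 b.2
  refine ⟨Unitary.guMk hF _ ((Unitary.preserves_iff hF _).2 ?_), rfl⟩
  simp only [Matrix.reindexAlgEquiv_apply, Matrix.reindex_apply, Matrix.transpose_submatrix,
    ← Matrix.submatrix_map, Matrix.submatrix_mul_equiv, Matrix.fromBlocks_transpose,
    Matrix.fromBlocks_map, Matrix.fromBlocks_multiply]
  simp [ha, hb, Matrix.fromBlocks_one, Matrix.map_zero _ (map_zero (HermStd.qHom hF))]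

include hq in
/-- The elements of large order. -/
theorem exists_orderOf_eq [Fact p.Prime] (n m : ℕ) (hn : 1 ≤ n) (hm : 1 ≤ m) (hm3 : m ≤ 3) :
    ∃ g : ↥(Cfsg.GU (n + m) F q) ⧸ Subgroup.center ↥(Cfsg.GU (n + m) F q),
      orderOf g = W q n * p ^ Nat.clog p m := by
  classical
  haveI : CharP F p := charP_of_card_eq_prime_pow (f := f * 2) (by rw [hF, hq, pow_mul])
  have hp : p.Prime := Fact.out
  obtain ⟨t, ht⟩ := exists_torus hF hq n hn
  obtain ⟨u, hu, hrk⟩ := UnitaryRegular.exists_regular hF hm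
  have hup : (Unitary.gmat u - 1) ^ (m - 1) ≠ 0 := by
    intro h
    rcases (show m = 1 ∨ m = 2 ∨ m = 3 by omega) with rfl | rfl | rfl
    · simp at h
    · rw [pow_one] at h; rw [h, Matrix.rank_zero] at hrk; omega
    · rw [show 3 - 1 = 2 from rfl, sq] at h
      have := Matrix.rank_add_rank_le_card_of_mul_eq_zero h
      rw [Fintype.card_fin, hrk] at this
      omega
  have huord : orderOf u = p ^ Nat.clog p m := by
    rw [← Subgroup.orderOf_coe]
    exact (Cfsg.Agent.S2260.result p m _ ⟨m, hu⟩).2 hup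
  obtain ⟨g, hg⟩ := exists_block hF t u
  refine ⟨QuotientGroup.mk g, ?_⟩
  have hpow : ∀ N, Unitary.gmat (g ^ N) = Matrix.reindexAlgEquiv F F finSumFinEquiv
      (Matrix.fromBlocks (Unitary.gmat (t ^ N)) 0 0 (Unitary.gmat (u ^ N))) := fun N => by
    rw [gmat_pow, hg, ← map_pow, Matrix.fromBlocks_diagonal_pow, gmat_pow, gmat_pow]
  have hscalar : ∀ N z, Unitary.gmat (g ^ N) = algebraMap F _ z ↔
      Unitary.gmat (t ^ N) = algebraMap F _ z ∧ Unitary.gmat (u ^ N) = algebraMap F _ z := fun N z => by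
    rw [hpow, ← (Matrix.reindexAlgEquiv F F finSumFinEquiv).commutes z,
      (Matrix.reindexAlgEquiv F F finSumFinEquiv).injective.eq_iff,
      show algebraMap F (Matrix (Fin n ⊕ Fin m) (Fin n ⊕ Fin m) F) z =
        Matrix.fromBlocks (algebraMap F _ z) 0 0 (algebraMap F _ z) from by
          simp [Matrix.algebraMap_eq_diagonal, Matrix.fromBlocks_diagonal],
      Matrix.fromBlocks_inj]
    simp
  have hiff : ∀ N, g ^ N ∈ Subgroup.center ↥(Cfsg.GU (n + m) F q) ↔ t ^ N = 1 ∧ u ^ N = 1 := by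
    intro N
    constructor
    · intro h
      obtain ⟨z, hz⟩ := central_eq_scalar hF (by omega) _ h
      obtain ⟨h1, h2⟩ := (hscalar N z).1 hz
      have hz1 : z = 1 := by
        haveI : Nonempty (Fin m) := ⟨⟨0, hm⟩⟩
        haveI : CharP (Matrix (Fin m) (Fin m) F) p :=
          charP_of_injective_algebraMap (algebraMap F (Matrix (Fin m) (Fin m) F)).injective p
        have hnil : (Unitary.gmat u - 1) ^ (p ^ m) = 0 :=
          pow_eq_zero_of_le (Nat.lt_pow_self hp.one_lt).le hu
        rw [sub_pow_char_pow_of_commute _ _ (Commute.one_right _), one_pow, sub_eq_zero] at hnil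
        have h3 : Unitary.gmat (u ^ N) ^ (p ^ m) = 1 := by
          rw [gmat_pow, ← pow_mul, mul_comm, pow_mul, hnil, one_pow]
        rw [h2, ← map_pow] at h3
        have h4 := congrFun (congrFun h3 ⟨0, hm⟩) ⟨0, hm⟩
        simp only [Matrix.algebraMap_matrix_apply, Algebra.algebraMap_self, RingHom.id_apply,
          if_true, Matrix.one_apply_eq] at h4
        refine frobenius_inj F p |>.iterate m ?_
        rw [iterate_frobenius, iterate_frobenius, h4, one_pow]
      subst hz1
      rw [map_one] at h1 h2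
      exact ⟨Subtype.ext (Units.ext h1), Subtype.ext (Units.ext h2)⟩
    · rintro ⟨h1, h2⟩
      exact mem_center_of_scalar _ 1 ((hscalar N 1).2
        ⟨by rw [h1, map_one]; rfl, by rw [h2, map_one]; rfl⟩)
  have hcop : Nat.Coprime (W q n) (p ^ Nat.clog p m) := by
    refine Nat.Coprime.pow_right _ ((hp.coprime_iff_not_dvd.2 ?_).symm)
    intro hd
    have hpq : p ∣ q ^ n := by
      rcases Nat.eq_zero_or_pos f with h0 | h0
      · have := HermStd.one_lt_q hF
        rw [hq, h0, pow_zero] at this; omega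
      · rw [hq, ← pow_mul]; exact dvd_pow_self p (Nat.mul_pos h0 hn).ne'
    have h1 : 1 ≤ q ^ n := Nat.one_le_pow _ _ (by have := HermStd.one_lt_q hF; omega)
    have h2 : p ∣ 1 := by
      rcases Nat.even_or_odd n with he | ho
      · rw [W_even q he] at hd
        have := Nat.dvd_sub hpq hd
        rwa [Nat.sub_sub_self h1] at this
      · rw [W_odd q ho] at hd
        exact (Nat.dvd_add_right hpq).1 hd
    exact hp.one_lt.ne' (Nat.dvd_one.1 h2)
  refine Nat.dvd_antisymm (orderOf_dvd_of_pow_eq_one ?_) ?_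
  · rw [← QuotientGroup.mk_pow, QuotientGroup.eq_one_iff, hiff]
    constructor
    · rw [pow_mul, ← ht, pow_orderOf_eq_one, one_pow]
    · rw [mul_comm, pow_mul, ← huord, pow_orderOf_eq_one, one_pow]
  · set N := orderOf (QuotientGroup.mk g : ↥(Cfsg.GU (n + m) F q) ⧸ Subgroup.center ↥(Cfsg.GU (n + m) F q))
    have h := pow_orderOf_eq_one (QuotientGroup.mk g : ↥(Cfsg.GU (n + m) F q) ⧸ Subgroup.center ↥(Cfsg.GU (n + m) F q))
    rw [← QuotientGroup.mk_pow, QuotientGroup.eq_one_iff, hiff] at h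
    exact hcop.mul_dvd_of_dvd_of_dvd (ht ▸ orderOf_dvd_of_pow_eq_one h.1)
      (huord ▸ orderOf_dvd_of_pow_eq_one h.2)

end Cfsg.Agent.Classical.PGUOrder
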